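import Groth.Agent.Sga2lef.H90.HensSec
import Groth.Agent.CalgC.IndEtale
import Groth.Agent.S0536
import Mathlib.RingTheory.Ideal.GoingDown
import Mathlib.AlgebraicGeometry.PullbackCarrier

/-!
# Rational points and sections for ind-smooth algebras over strictly henselian local rings
-/

set_option autoImplicit false
universe u

open CategoryTheory CategoryTheory.Limits AlgebraicGeometry IsLocalRing TensorProduct

namespace Groth.Agent.Sga2lef.H75.CaseCAlg

open Groth.Agent.CalgC.IndEtale

/-- A smooth algebra `C` over a strictly henselian local ring `A` mapping to an ind-smooth local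
algebra `R` with `m_A R = m_R` has a section over `A` whose closed point is a specialization of the
image of the closed point of `R`. -/
theorem exists_section {A R C : Type u} [CommRing A] [IsNoetherianRing A] [HenselianLocalRing A]
    [IsSepClosed (ResidueField A)] [CommRing R] [IsLocalRing R] [Algebra A R]
    [IsLocalHom (algebraMap A R)] (h : IsIndSmooth A R)
    (hm : (maximalIdeal A).map (algebraMap A R) = maximalIdeal R) [CommRing C] [Algebra A C]
    [Algebra.Smooth A C] (χ : C →ₐ[A] R) :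
    ∃ σ : C →ₐ[A] A, ∀ c, χ c ∈ maximalIdeal R → σ c ∈ maximalIdeal A := by
  let k := ResidueField A
  let q : Ideal C := (maximalIdeal R).comap χ
  have hz : ∀ r ∈ maximalIdeal R, (1 : k) ⊗ₜ[A] r = 0 := by
    intro r hr
    rw [← hm] at hr
    refine Submodule.span_induction ?_ ?_ ?_ ?_ hr
    · rintro _ ⟨a, ha, rfl⟩
      have h1 : (1 : k) ⊗ₜ[A] (algebraMap A R a) = (algebraMap A k a) ⊗ₜ[A] (1 : R) := by
        rw [Algebra.algebraMap_eq_smul_one, ← TensorProduct.smul_tmul, Algebra.algebraMap_eq_smul_one]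
      rw [h1]
      have h2 : algebraMap A k a = 0 := Ideal.Quotient.eq_zero_iff_mem.mpr ha
      rw [h2, TensorProduct.zero_tmul]
    · exact TensorProduct.tmul_zero _ _
    · intro a b _ _ ha hb
      rw [TensorProduct.tmul_add, ha, hb, add_zero]
    · intro a b _ hb
      have h3 : (1 : k) ⊗ₜ[A] (a • b) = ((1 : k) ⊗ₜ[A] a) * ((1 : k) ⊗ₜ[A] b) := by
        rw [Algebra.TensorProduct.tmul_mul_tmul, one_mul, smul_eq_mul]
      rw [h3, hb, mul_zero]
  let j : C →ₐ[A] k ⊗[A] R := (Algebra.TensorProduct.includeRight : R →ₐ[A] k ⊗[A] R).comp χ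
  let i : (C ⧸ q) →ₐ[A] k ⊗[A] R := Ideal.Quotient.liftₐ q j (fun c hc => hz _ hc)
  let P := k ⊗[A] (C ⧸ q)
  have hft : Algebra.FiniteType A (C ⧸ q) := inferInstance
  have hfp : Algebra.FinitePresentation A (C ⧸ q) :=
    Algebra.FinitePresentation.of_finiteType.mp hft
  let φ : P →ₐ[k] k ⊗[A] R :=
    Algebra.TensorProduct.lift (Algebra.ofId k _) i (fun _ _ => Commute.all _ _)
  obtain ⟨E, _, _, hE, ψ, ξ, hξ⟩ := IsInd.baseChange isGood_smooth h k P φ
  have hEnt : Nontrivial E := by
    let K := ResidueField R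
    let ev : k ⊗[A] R →ₐ[A] K := Algebra.TensorProduct.lift
      (IsScalarTower.toAlgHom A k K) (IsScalarTower.toAlgHom A R K) (fun _ _ => Commute.all _ _)
    exact ((ev : k ⊗[A] R →+* K).comp (ξ : E →+* k ⊗[A] R)).domain_nontrivial
  obtain ⟨ρ⟩ := H90.HensSec.exists_algHom_field (k := k) (Q := E)
  let σ₀ : C →ₐ[A] k := (((ρ.comp ψ).restrictScalars A).comp
    (Algebra.TensorProduct.includeRight : (C ⧸ q) →ₐ[A] P)).comp (Ideal.Quotient.mkₐ A q)
  obtain ⟨σ, hσ⟩ := S0536.result A C A (maximalIdeal A) σ₀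
  refine ⟨σ, fun c hc => ?_⟩
  have h1 : Ideal.Quotient.mk (maximalIdeal A) (σ c) = σ₀ c := congr($hσ c)
  have h2 : Ideal.Quotient.mkₐ A q c = 0 := Ideal.Quotient.eq_zero_iff_mem.mpr hc
  have h3 : σ₀ c = 0 := by
    change (((ρ.comp ψ).restrictScalars A).comp
      (Algebra.TensorProduct.includeRight : (C ⧸ q) →ₐ[A] P)) (Ideal.Quotient.mkₐ A q c) = 0
    rw [h2, map_zero]
  rw [h3] at h1
  exact Ideal.Quotient.eq_zero_iff_mem.mp h1

/-- Two primes of two algebras with the same contraction come from a prime of the tensor product. -/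
theorem exists_prime_tensor {C T D : Type u} [CommRing C] [CommRing T] [CommRing D] [Algebra C T]
    [Algebra C D] (x : PrimeSpectrum T) (y : PrimeSpectrum D)
    (h : PrimeSpectrum.comap (algebraMap C T) x = PrimeSpectrum.comap (algebraMap C D) y) :
    ∃ w : PrimeSpectrum (T ⊗[C] D), PrimeSpectrum.comap (algebraMap T (T ⊗[C] D)) w = x := by
  obtain ⟨z, hz, -⟩ := Scheme.Pullback.exists_preimage_pullback
    (f := Spec.map (CommRingCat.ofHom (algebraMap C T)))
    (g := Spec.map (CommRingCat.ofHom (algebraMap C D))) x y h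
  refine ⟨(pullbackSpecIso C T D).hom z, ?_⟩
  rw [← hz, ← pullbackSpecIso_hom_fst' C T D]
  rfl

/-- Maps from a smooth algebra to a strictly henselian local ring over a generization of a point of
the image. -/
theorem exists_hom {C D S T : Type u} [CommRing C] [CommRing D] [CommRing S] [CommRing T]
    [Algebra C D] [Algebra C S] [Algebra.Smooth C D] (δ : D →ₐ[C] S) [IsLocalRing S]
    [HenselianLocalRing T] [IsSepClosed (ResidueField T)] (ρ : C →+* T)
    (h : ∀ c, ρ c ∈ maximalIdeal T → algebraMap C S c ∈ maximalIdeal S) :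
    ∃ δ' : D →+* T, ∀ c, δ' (algebraMap C D c) = ρ c := by
  let := ρ.toAlgebra
  have hz : ((maximalIdeal S).comap δ).IsPrime := inferInstance
  have hy : ((maximalIdeal T).comap (algebraMap C T)).IsPrime := inferInstance
  have hflat : Module.Flat C D := inferInstance
  obtain ⟨𝔶, -, h𝔶, hover⟩ := Ideal.exists_ideal_le_liesOver_of_le (R := C) (S := D)
    (p := (maximalIdeal T).comap (algebraMap C T))
    (q := ((maximalIdeal S).comap δ).comap (algebraMap C D)) ((maximalIdeal S).comap δ) (by
      intro c hc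
      change δ (algebraMap C D c) ∈ maximalIdeal S
      rw [AlgHom.commutes]
      exact h c hc)
  obtain ⟨w, hw⟩ := exists_prime_tensor (C := C) (T := T) (D := D) (closedPoint T) ⟨𝔶, h𝔶⟩ (by
    apply PrimeSpectrum.ext
    exact hover.over)
  have hwp : w.asIdeal.IsPrime := w.isPrime
  obtain ⟨τ, -⟩ := H90.HensSec.exists_section (R := T) (D := T ⊗[C] D) w.asIdeal
    (congrArg PrimeSpectrum.asIdeal hw) 1 (fun h1 => hwp.ne_top ((Ideal.eq_top_iff_one _).mpr h1))
  refine ⟨(τ : T ⊗[C] D →+* T).comp (Algebra.TensorProduct.includeRight : D →ₐ[C] T ⊗[C] D), fun c => ?_⟩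
  change τ ((Algebra.TensorProduct.includeRight : D →ₐ[C] T ⊗[C] D) (algebraMap C D c)) = ρ c
  rw [AlgHom.commutes, IsScalarTower.algebraMap_apply C T (T ⊗[C] D), AlgHom.commutes]
  rfl

end Groth.Agent.Sga2lef.H75.CaseCAlg
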