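import Groth.Agent.Sga2lef.H75.QExt0
import Groth.Agent.Sga2lef.H75.CaseCAlg
import Groth.Agent.Sga2lef.H99.StrictDim
import Groth.Agent.Sga2lef.H90.ConnC
import Groth.Agent.Sga2lef.H90.Coord
import Groth.Agent.Sga2lef.H90.PowInd
import Groth.Agent.Pi1.H395.RegCpl
import Groth.Agent.S0262

/-!
# Purity over strictly henselian local rings of homotopic depth at least three

Let `A → R` be a regular local homomorphism of strictly henselian Noetherian local rings with
`m_A R = m_R`.  If restriction of finite étale covers from `Spec A` to its punctured spectrum is an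
equivalence, the punctured spectrum of `R` is connected and purity holds for `R`.
-/

set_option autoImplicit false
universe u

open CategoryTheory CategoryTheory.Limits AlgebraicGeometry IsLocalRing TensorProduct

namespace Groth.Agent.Sga2lef.H75.CaseC

open Groth.Agent.Pi1.H395.ExtBC Groth.Agent.CalgC.IndEtale Groth.Agent.Pi1A.FGLimit
open Groth.Agent.Ega4A.CplFlat

/-- The comparison map `Â ⊗ C → R̂`. -/
noncomputable def cmp {A R C : Type u} [CommRing A] [IsNoetherianRing A] [IsLocalRing A]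
    [CommRing R] [IsNoetherianRing R] [IsLocalRing R] [Algebra A R] [IsLocalHom (algebraMap A R)]
    [CommRing C] [Algebra A C] (χ : C →ₐ[A] R) :
    (AdicCompletion (maximalIdeal A) A) ⊗[A] C →ₐ[A] AdicCompletion (maximalIdeal R) R :=
  Algebra.TensorProduct.lift
    ({ cplMap A R with
        commutes' := fun a => by
          change cplMap A R (algebraMap A _ a) = _
          rw [cplMap_algebraMap, ← IsScalarTower.algebraMap_apply] } :
      AdicCompletion (maximalIdeal A) A →ₐ[A] AdicCompletion (maximalIdeal R) R)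
    ((IsScalarTower.toAlgHom A R (AdicCompletion (maximalIdeal R) R)).comp χ)
    (fun _ _ => Commute.all _ _)

section

variable {A R C : Type u} [CommRing A] [IsNoetherianRing A] [IsLocalRing A]
    [CommRing R] [IsNoetherianRing R] [IsLocalRing R] [Algebra A R] [IsLocalHom (algebraMap A R)]
    [CommRing C] [Algebra A C] (χ : C →ₐ[A] R)

theorem cmp_tmul (x : AdicCompletion (maximalIdeal A) A) (c : C) :
    cmp χ (x ⊗ₜ[A] c) = cplMap A R x * algebraMap R _ (χ c) :=
  Algebra.TensorProduct.lift_tmul _ _ _ _ _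

/-- The extension of a section to the completion. -/
noncomputable def sec (σ : C →ₐ[A] A) :
    (AdicCompletion (maximalIdeal A) A) ⊗[A] C →ₐ[AdicCompletion (maximalIdeal A) A]
      AdicCompletion (maximalIdeal A) A :=
  Algebra.TensorProduct.lift (AlgHom.id _ _) ((Algebra.ofId A _).comp σ) (fun _ _ => Commute.all _ _)

theorem sec_tmul (σ : C →ₐ[A] A) (x : AdicCompletion (maximalIdeal A) A) (c : C) :
    sec σ (x ⊗ₜ[A] c) = x * algebraMap A _ (σ c) :=
  Algebra.TensorProduct.lift_tmul _ _ _ _ _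

theorem exists_sub_mem (I : Ideal A) (x : AdicCompletion I A) :
    ∃ a : A, x - algebraMap A _ a ∈ I.map (algebraMap A (AdicCompletion I A)) := by
  obtain ⟨a, ha⟩ := S0262.dense A I 1 x
  rw [pow_one] at ha
  exact ⟨a, ha⟩

/-- Every element of `Â ⊗ C` is congruent to an element of `C` modulo the maximal ideal of `A`. -/
theorem exists_decomp (t : (AdicCompletion (maximalIdeal A) A) ⊗[A] C) :
    ∃ c : C, t - 1 ⊗ₜ[A] c ∈
      (maximalIdeal A).map (algebraMap A ((AdicCompletion (maximalIdeal A) A) ⊗[A] C)) := by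
  induction t using TensorProduct.induction_on with
  | zero => exact ⟨0, by simp⟩
  | tmul x c =>
    obtain ⟨a, ha⟩ := exists_sub_mem (maximalIdeal A) x
    refine ⟨a • c, ?_⟩
    have h1 : x ⊗ₜ[A] c - 1 ⊗ₜ[A] (a • c) = ((x - algebraMap A _ a) ⊗ₜ[A] (1 : C)) *
        ((1 : AdicCompletion (maximalIdeal A) A) ⊗ₜ[A] c) := by
      rw [Algebra.TensorProduct.tmul_mul_tmul, mul_one, one_mul, TensorProduct.sub_tmul,
        ← TensorProduct.smul_tmul, Algebra.algebraMap_eq_smul_one]
    rw [h1]
    refine Ideal.mul_mem_right _ _ ?_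
    have h2 := Ideal.mem_map_of_mem (algebraMap (AdicCompletion (maximalIdeal A) A)
      ((AdicCompletion (maximalIdeal A) A) ⊗[A] C)) ha
    rw [Ideal.map_map, ← IsScalarTower.algebraMap_eq] at h2
    exact h2
  | add s t hs ht =>
    obtain ⟨c, hc⟩ := hs
    obtain ⟨c', hc'⟩ := ht
    refine ⟨c + c', ?_⟩
    have h1 : s + t - 1 ⊗ₜ[A] (c + c') = (s - 1 ⊗ₜ[A] c) + (t - 1 ⊗ₜ[A] c') := by
      rw [TensorProduct.tmul_add]; ring
    rw [h1]
    exact Ideal.add_mem _ hc hc'

/-- The point of `Spec (Â ⊗ C)` defined by the section is a specialization of the one defined by `R`. -/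
theorem sec_mem (σ : C →ₐ[A] A) (hσ : ∀ c, χ c ∈ maximalIdeal R → σ c ∈ maximalIdeal A)
    (t : (AdicCompletion (maximalIdeal A) A) ⊗[A] C)
    (ht : cmp χ t ∈ maximalIdeal (AdicCompletion (maximalIdeal R) R)) :
    sec σ t ∈ maximalIdeal (AdicCompletion (maximalIdeal A) A) := by
  obtain ⟨c, hc⟩ := exists_decomp t
  have hA : ∀ a ∈ maximalIdeal A, algebraMap A (AdicCompletion (maximalIdeal A) A) a ∈
      maximalIdeal (AdicCompletion (maximalIdeal A) A) := fun a ha => by
    rw [AdicCompletion.maximalIdeal_eq_map]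
    exact Ideal.mem_map_of_mem _ ha
  have hR : ∀ r, algebraMap R (AdicCompletion (maximalIdeal R) R) r ∈
      maximalIdeal (AdicCompletion (maximalIdeal R) R) ↔ r ∈ maximalIdeal R := fun r =>
    ⟨fun h => by
      rw [mem_maximalIdeal, mem_nonunits_iff] at h ⊢
      exact fun hr => h (hr.map _), fun hr => by
      rw [AdicCompletion.maximalIdeal_eq_map]
      exact Ideal.mem_map_of_mem _ hr⟩
  have h1 : (maximalIdeal A).map (algebraMap A ((AdicCompletion (maximalIdeal A) A) ⊗[A] C)) ≤
      (maximalIdeal (AdicCompletion (maximalIdeal R) R)).comap (cmp χ) := by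
    rw [Ideal.map_le_iff_le_comap]
    intro a ha
    change cmp χ (algebraMap A _ a) ∈ maximalIdeal (AdicCompletion (maximalIdeal R) R)
    rw [AlgHom.commutes, IsScalarTower.algebraMap_apply A R, hR]
    exact le_comap A R ha
  have h2 : (maximalIdeal A).map (algebraMap A ((AdicCompletion (maximalIdeal A) A) ⊗[A] C)) ≤
      (maximalIdeal (AdicCompletion (maximalIdeal A) A)).comap (sec σ) := by
    rw [Ideal.map_le_iff_le_comap]
    intro a ha
    change sec σ (algebraMap A _ a) ∈ maximalIdeal (AdicCompletion (maximalIdeal A) A)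
    rw [IsScalarTower.algebraMap_apply A (AdicCompletion (maximalIdeal A) A), AlgHom.commutes]
    exact hA a ha
  have h3 : cmp χ (1 ⊗ₜ[A] c) ∈ maximalIdeal (AdicCompletion (maximalIdeal R) R) := by
    have h4 : cmp χ (1 ⊗ₜ[A] c) = cmp χ t - cmp χ (t - 1 ⊗ₜ[A] c) := by rw [map_sub]; ring
    rw [h4]
    exact Ideal.sub_mem _ ht (h1 hc)
  rw [cmp_tmul, map_one, one_mul, hR] at h3
  have h5 : sec σ t = sec σ (t - 1 ⊗ₜ[A] c) + sec σ (1 ⊗ₜ[A] c) := by rw [map_sub]; ring
  rw [h5]
  refine Ideal.add_mem _ (h2 hc) ?_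
  rw [sec_tmul, one_mul]
  exact hA _ (hσ c h3)

end

theorem puncturedSpec_eq {A R : Type u} [CommRing A] [IsLocalRing A] [CommRing R] [IsLocalRing R]
    [Algebra A R] [IsLocalHom (algebraMap A R)]
    (hm : (maximalIdeal A).map (algebraMap A R) = maximalIdeal R) :
    FEt.puncturedSpec R = toBase A R ⁻¹ᵁ FEt.puncturedSpec A := by
  ext y
  let y' : PrimeSpectrum R := y
  refine (PConn.mem_puncturedSpec y').trans (Iff.trans ?_
    (PConn.mem_puncturedSpec (PrimeSpectrum.comap (algebraMap A R) y')).symm)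
  refine not_congr ⟨fun h => ?_, fun h => ?_⟩
  · rw [PrimeSpectrum.comap_asIdeal, h]
    exact ((IsLocalRing.local_hom_TFAE (algebraMap A R)).out 0 4).mp ‹_›
  · refine le_antisymm (IsLocalRing.le_maximalIdeal y'.isPrime.ne_top) ?_
    rw [← hm, ← h]
    exact Ideal.map_comap_le

/-- **Purity in case (c)**. -/
theorem purityHolds {A R : Type u} [CommRing A] [CommRing R] [HenselianLocalRing A]
    [HenselianLocalRing R] [IsSepClosed (ResidueField A)] [IsSepClosed (ResidueField R)]
    [IsNoetherianRing A] [IsNoetherianRing R] [Algebra A R] [IsLocalHom (algebraMap A R)]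
    (hind : IsIndSmooth A R) (hm : (maximalIdeal A).map (algebraMap A R) = maximalIdeal R)
    (hcA : ConnectedSpace (FEt.puncturedSpec A : Scheme.{u}))
    (hdim : (2 : WithBot ℕ∞) ≤ ringKrullDim A)
    (hP : FEt.PurityHolds A) : FEt.PurityHolds R := by
  refine ⟨fun W => ?_⟩
  change ∃ Y, Nonempty ((FEt.restrict (FEt.puncturedSpec R).ι).obj Y ≅ W)
  rw [S0262.result R W]
  change ExtOver W (Spec.map (CommRingCat.ofHom
          (algebraMap R (AdicCompletion (IsLocalRing.maximalIdeal R) R))))
  obtain ⟨C, _, _, hC, χ, V, hV⟩ := H90.Spread.exists_smooth hind (FEt.puncturedSpec A)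
    (FEt.puncturedSpec R) (puncturedSpec_eq hm) W
  obtain ⟨σ, hσ⟩ := CaseCAlg.exists_section hind hm χ
  let Ah := AdicCompletion (maximalIdeal A) A
  let Rh := AdicCompletion (maximalIdeal R) R
  have hAhN : IsNoetherianRing Ah := isNoetherianRing_cpl A
  have hRhN : IsNoetherianRing Rh := isNoetherianRing_cpl R
  have hAhC : IsAdicComplete (maximalIdeal Ah) Ah := inferInstance
  have hRh := Pi1.H395.RegCpl.sc_cpl R
  have hRhH : HenselianLocalRing Rh := hRh.henselian
  have hRhS : IsSepClosed (ResidueField Rh) := hRh.sep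
  let C' := Ah ⊗[A] C
  let σ' : C' →ₐ[Ah] Ah := sec σ
  let ρ' : C' →ₐ[A] Rh := cmp χ
  obtain ⟨f, hf, d, _, _, _, φ, hφ⟩ := H90.Coord.exists_chart σ'
  let S := MvPowerSeries (Fin d) Ah
  let C1 := Localization.Away f
  let _ : Algebra C1 S := (φ : C1 →+* S).toAlgebra
  have hφa : ∀ c, algebraMap C1 S c = φ c := fun c => rfl
  have htow : IsScalarTower (MvPolynomial (Fin d) Ah) C1 S :=
    IsScalarTower.of_algebraMap_eq fun p => (φ.commutes p).symm
  let ι : C →+* C1 := (algebraMap C' C1).comp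
    ((Algebra.TensorProduct.includeRight : C →ₐ[A] C') : C →+* C')
  have hι : ∀ c, ι c = algebraMap C' C1 (1 ⊗ₜ[A] c) := fun c => rfl
  let Φ : C →+* S := (algebraMap C1 S).comp ι
  have hΦ : ∀ a : A, Φ (algebraMap A C a) = MvPowerSeries.C (algebraMap A _ a) := by
    intro a
    change φ (algebraMap C' C1 (1 ⊗ₜ[A] (algebraMap A C a))) = _
    have h1 : ((1 : Ah) ⊗ₜ[A] (algebraMap A C a) : C') = algebraMap Ah C' (algebraMap A Ah a) := by
      rw [← IsScalarTower.algebraMap_apply]
      exact AlgHom.commutes (Algebra.TensorProduct.includeRight : C →ₐ[A] C') a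
    rw [h1, ← IsScalarTower.algebraMap_apply Ah C' C1,
      IsScalarTower.algebraMap_apply Ah (MvPolynomial (Fin d) Ah) C1, φ.commutes]
    rw [MvPolynomial.algebraMap_eq]
    exact MvPolynomial.coe_C _
  have hΦ0 : (MvPowerSeries.constantCoeff.comp Φ : C →+* Ah) = (algebraMap A Ah).comp (σ : C →+* A) := by
    refine RingHom.ext fun c => ?_
    change MvPowerSeries.constantCoeff (φ (algebraMap C' C1 (1 ⊗ₜ[A] c))) = algebraMap A Ah (σ c)
    rw [hφ]
    change sec σ _ = _
    rw [sec_tmul, one_mul]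
  -- extension along the section
  have h0 : ExtOver V (Spec.map (CommRingCat.ofHom (MvPowerSeries.constantCoeff.comp Φ))) := by
    obtain ⟨V', hV'⟩ := H90.Spread.exists_restrict' (FEt.puncturedSpec A)
      (toBase A C ⁻¹ᵁ FEt.puncturedSpec A) (Spec.map (CommRingCat.ofHom (σ : C →+* A))) (by
        rw [← Scheme.Hom.comp_preimage, ← Spec.map_comp, ← CommRingCat.ofHom_comp]
        have h1 : (σ : C →+* A).comp (algebraMap A C) = RingHom.id A := σ.comp_algebraMap
        rw [h1, CommRingCat.ofHom_id, Spec.map_id]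
        exact (Scheme.Hom.id_preimage _).symm) V
    have h2 : ExtOver V' (𝟙 _) := extOver_id_iff.mpr (hP.mem_essImage V')
    rw [hV'] at h2
    refine h2.of_eq_comp (Spec.map (CommRingCat.ofHom (algebraMap A Ah))) ?_
    rw [Category.id_comp, hΦ0, CommRingCat.ofHom_comp, Spec.map_comp]
  have h1 := QExt0.extOver_powerSeries hcA hdim V d Φ hΦ h0
  -- spreading out
  obtain ⟨V1, hV1⟩ := H90.Spread.exists_restrict' _ _ (Spec.map (CommRingCat.ofHom ι)) rfl V
  have hC1N : IsNoetherianRing C1 := by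
    have : Algebra.FiniteType (MvPolynomial (Fin d) Ah) C1 := inferInstance
    exact Algebra.FiniteType.isNoetherianRing (MvPolynomial (Fin d) Ah) C1
  have h2 : ExtOver V1 (toBase C1 S) := by
    rw [hV1, ← Spec.map_comp, ← CommRingCat.ofHom_comp]
    exact h1
  obtain ⟨D, _, _, hD, δ, hδ⟩ := H90.Spread.exists_smooth_extOver
    (H90.PowInd.isIndSmooth_of_etale d C1) _ V1 h2
  rw [hV1] at hδ
  -- the map to the completion of `R`
  have hρf : IsUnit (ρ' f) := by
    by_contra hcon
    exact (mem_maximalIdeal _).mp (sec_mem χ σ hσ f ((mem_maximalIdeal _).mpr hcon)) hf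
  let ρ : C1 →+* Rh := IsLocalization.Away.lift (S := C1) f (g := (ρ' : C' →+* Rh)) hρf
  have hρ : ∀ c, ρ (algebraMap C' C1 c) = ρ' c := fun c => IsLocalization.Away.lift_eq f hρf c
  have hSloc : IsLocalRing S := inferInstance
  obtain ⟨δ', hδ'⟩ := CaseCAlg.exists_hom δ ρ (by
    intro c hc
    obtain ⟨n, t, ht⟩ := IsLocalization.Away.surj f c
    have hfu : IsUnit (algebraMap C' C1 f ^ n) := (IsLocalization.Away.algebraMap_isUnit f).pow n
    have h3 : ρ' t ∈ maximalIdeal Rh := by
      rw [← hρ, ← ht, map_mul]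
      exact Ideal.mul_mem_right _ _ hc
    have h4 := sec_mem χ σ hσ t h3
    have h5 : algebraMap C1 S (algebraMap C' C1 t) ∈ maximalIdeal S := by
      rw [mem_maximalIdeal, mem_nonunits_iff] at h4 ⊢
      intro h6
      apply h4
      have h7 := h6.map (MvPowerSeries.constantCoeff : S →+* Ah)
      rw [hφa, hφ] at h7
      exact h7
    rw [← ht, map_mul] at h5
    rw [mem_maximalIdeal, mem_nonunits_iff] at h5 ⊢
    exact fun h6 => h5 (h6.mul (hfu.map _)))
  rw [hV]
  refine hδ.of_eq_comp (Spec.map (CommRingCat.ofHom δ')) ?_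
  rw [← Spec.map_comp, ← Spec.map_comp, ← Spec.map_comp, ← CommRingCat.ofHom_comp,
    ← CommRingCat.ofHom_comp, ← CommRingCat.ofHom_comp]
  congr 2
  refine RingHom.ext fun c => ?_
  change δ' (algebraMap C1 D (ι c)) = algebraMap R Rh (χ c)
  rw [hδ', hι, hρ]
  change cmp χ _ = _
  rw [cmp_tmul, map_one, one_mul]

/-- **Case (c)** in the form used for S3368. -/
theorem caseC {A R : Type u} [CommRing A] [CommRing R] [HenselianLocalRing A]
    [HenselianLocalRing R] [IsSepClosed (ResidueField A)] [IsSepClosed (ResidueField R)]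
    [IsNoetherianRing A] [IsNoetherianRing R] [Algebra A R] [IsLocalHom (algebraMap A R)]
    (h : CAlg.IsRegularHom A R) (hm : (maximalIdeal A).map (algebraMap A R) = maximalIdeal R)
    (hA : (FEt.restrict (FEt.puncturedSpec A).ι).IsEquivalence) :
    ConnectedSpace (FEt.puncturedSpec R : Scheme.{u}) ∧ FEt.PurityHolds R := by
  have hsA : EtCoh.IsStrictlyHenselianLocalRing A := ⟨inferInstance, inferInstance⟩
  obtain ⟨hcA, hdim⟩ := H99.StrictDim.main A hsA hA
  have hind := H90.PowInd.isIndSmooth_of_isRegularHom h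
  exact ⟨H90.ConnC.connectedSpace_puncturedSpec hind hm hcA,
    purityHolds hind hm hcA hdim hA.essSurj⟩

end Groth.Agent.Sga2lef.H75.CaseC
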