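import Groth.Agent.Sga2lef.H75.Transform
import Groth.Agent.S0573
import Groth.Agent.S0568
import Mathlib.RingTheory.LocalProperties.Reduced

/-!
# The ideal transform is finite and has depth two
-/

set_option autoImplicit false
universe u v

open IsLocalRing Polynomial

namespace Groth.Agent.Sga2lef.H75.TransformDepth

open Transform

theorem two_le_depth {B : Type u} [CommRing B] [IsNoetherianRing B] [IsLocalRing B] {x : B}
    (hx : x ∈ nonZeroDivisors B) (hxm : x ∈ maximalIdeal B) [Module.Finite B (transform x)]
    [IsLocalRing (transform x)] : (2 : ℕ∞) ≤ LocCoh.depth (transform x) (transform x) := by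
  have hinj := injective_algebraMap hx
  have hinj' : Function.Injective (algebraMap B (transform x)) := fun a b h => hinj (congrArg Subtype.val h)
  have : FaithfulSMul B (transform x) := (faithfulSMul_iff_algebraMap_injective _ _).mpr hinj'
  have hloc : IsLocalHom (algebraMap B (transform x)) := inferInstance
  have hNoeth : IsNoetherianRing (transform x) := IsNoetherianRing.of_finite B (transform x)
  have hm : ∀ a ∈ maximalIdeal B, algebraMap B (transform x) a ∈ maximalIdeal (transform x) := by
    intro a ha
    rw [mem_maximalIdeal, mem_nonunits_iff] at ha ⊢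
    exact fun h => ha (isUnit_of_map_unit _ _ h)
  have hreg : ∀ s t : transform x, algebraMap B (transform x) x * s = algebraMap B (transform x) x * t →
      s = t := by
    intro s t h
    apply Subtype.ext
    exact (isUnit_x (x := x)).mul_left_cancel (congrArg Subtype.val h)
  refine CalgA.DepthSmall.two_le_depth_of (x := algebraMap B (transform x) x) (hm x hxm) ?_ ?_
  · intro s t h
    exact hreg s t h
  · intro hass
    obtain ⟨hp, q, hq⟩ := (isAssociatedPrime_iff (R := transform x)).mp hass
    obtain ⟨t, rfl⟩ := Submodule.Quotient.mk_surjective _ q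
    obtain ⟨N, hN⟩ := exists_pow_of_finite (transform x) le_rfl
    -- the quotient
    obtain ⟨u, hu⟩ := isUnit_x (x := x)
    have hxe : algebraMap B (Localization.Away x) x * ((↑u⁻¹ : Localization.Away x) * t) = t := by
      rw [← mul_assoc, ← hu, Units.mul_inv, one_mul]
    have hmem : (↑u⁻¹ : Localization.Away x) * t ∈ transform x := by
      refine ⟨1 + N, fun a ha => ?_⟩
      rw [pow_add, pow_one] at ha
      refine Submodule.mul_induction_on ha (fun c hc d hd => ?_) ?_
      · have h1 : algebraMap B (transform x) c ∈ (⊥ : Submodule (transform x)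
            (QuotSMulTop (algebraMap B (transform x) x) (transform x))).colon
            {Submodule.Quotient.mk t} := hq ▸ hm c hc
        rw [Submodule.mem_colon_singleton, Submodule.mem_bot, ← Submodule.Quotient.mk_smul,
          Submodule.Quotient.mk_eq_zero, Submodule.mem_smul_pointwise_iff_exists] at h1
        obtain ⟨t', -, ht'⟩ := h1
        have h2 : algebraMap B (Localization.Away x) x * (t' : Localization.Away x) =
            algebraMap B (Localization.Away x) c * t := congrArg Subtype.val ht'
        have h3 : algebraMap B (Localization.Away x) c * ((↑u⁻¹ : Localization.Away x) * t) = t' := by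
          apply (isUnit_x (x := x)).mul_left_cancel
          rw [h2, mul_left_comm, hxe]
        obtain ⟨b, hb⟩ := hN d hd t' t'.2
        refine ⟨b, ?_⟩
        rw [← hb, ← h3, map_mul]
        ring
      · rintro c d ⟨c', hc'⟩ ⟨d', hd'⟩
        exact ⟨c' + d', by rw [map_add, map_add, add_mul, hc', hd']⟩
    have h1 : (Submodule.Quotient.mk t : QuotSMulTop (algebraMap B (transform x) x) (transform x)) = 0 := by
      rw [Submodule.Quotient.mk_eq_zero, Submodule.mem_smul_pointwise_iff_exists]
      exact ⟨⟨_, hmem⟩, Submodule.mem_top, Subtype.ext hxe⟩
    apply hp.ne_top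
    rw [hq, h1, Ideal.eq_top_iff_one, Submodule.mem_colon_singleton, smul_zero]
    exact Submodule.zero_mem _

theorem finite_transform {B : Type u} [CommRing B] [IsReduced B] [HenselianLocalRing B]
    (hN : CAlg.IsNagata B)
    (hdim : ∀ p ∈ minimalPrimes B, (2 : WithBot ℕ∞) ≤ ringKrullDim (B ⧸ p)) {x : B}
    (hx : x ∈ nonZeroDivisors B) : Module.Finite B (transform x) := by
  have hNoeth : IsNoetherianRing B := hN.1
  have : IsReduced (Localization.Away x) := isReduced_localizationPreserves (Submonoid.powers x) _ inferInstance
  have : Algebra.FiniteType B (Localization.Away x) := IsLocalization.finiteType_of_monoid_fg (Submonoid.powers x) _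
  have h1 : Module.Finite B (integralClosure B (Localization.Away x)) :=
    S0573.result B hN (Localization.Away x)
  have hle : transform x ≤ integralClosure B (Localization.Away x) := by
    rintro s ⟨n, hn⟩
    refine PunctRed.isIntegral_of_reduced hdim x hx s fun a ha => ?_
    obtain ⟨b, hb⟩ := hn (a ^ n) (Ideal.pow_mem_pow ha n)
    exact ⟨n, b, by rw [← hb, map_pow]⟩
  exact Module.Finite.of_injective (Subalgebra.inclusion hle).toLinearMap
    (Subalgebra.inclusion_injective hle)

end Groth.Agent.Sga2lef.H75.TransformDepth
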