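import Groth.Agent.Sga2lef.H75.PowMap
import Groth.Agent.Sga2lef.H75.FlatConn
import Groth.Agent.Sga2lef.H75.TransformDepth
import Groth.Agent.CalgA.NagataExt
import Groth.Agent.S1159

/-!
# Restriction of finite étale covers of the punctured spectrum along power series, without depth
-/

set_option autoImplicit false
universe u

open CategoryTheory CategoryTheory.Limits AlgebraicGeometry IsLocalRing

namespace Groth.Agent.Sga2lef.H75.LefComplete

open PConn Transform

/-- The open subset of the spectrum of a power series ring over `A` lying over the punctured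
spectrum of `A`. -/
noncomputable def openOf (A : Type u) [CommRing A] [IsLocalRing A] (d : ℕ) :
    (Spec (CommRingCat.of (MvPowerSeries (Fin d) A))).Opens :=
  Spec.map (CommRingCat.ofHom (MvPowerSeries.C : A →+* MvPowerSeries (Fin d) A)) ⁻¹ᵁ
    FEt.puncturedSpec A

theorem mem_openOf_iff {A : Type u} [CommRing A] [IsLocalRing A] {d : ℕ}
    (y : PrimeSpectrum (MvPowerSeries (Fin d) A)) : y ∈ openOf A d ↔
      ∃ a ∈ maximalIdeal A, MvPowerSeries.C a ∉ y.asIdeal := by
  change PrimeSpectrum.comap (MvPowerSeries.C : A →+* MvPowerSeries (Fin d) A) y ∈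
    FEt.puncturedSpec A ↔ _
  rw [mem_puncturedSpec]
  constructor
  · intro h
    by_contra! hcon
    apply h
    refine ((maximalIdeal.isMaximal A).eq_of_le ?_ hcon).symm
    exact (PrimeSpectrum.comap _ y).isPrime.ne_top
  · rintro ⟨a, ha, hay⟩ h
    apply hay
    have : a ∈ (PrimeSpectrum.comap (MvPowerSeries.C : A →+* MvPowerSeries (Fin d) A) y).asIdeal := by
      rw [h]; exact ha
    exact this

section Fin

variable {A T : Type u} [CommRing A] [CommRing T] [IsLocalRing A] [IsLocalRing T] (φ : A →+* T)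

theorem isLocalHom_phi (hfin : φ.Finite) (hker : RingHom.ker φ ≤ nilradical A) :
    ∀ a, a ∈ maximalIdeal A → φ a ∈ maximalIdeal T := by
  intro a ha
  let := φ.toAlgebra
  have : Algebra.IsIntegral A T := ⟨hfin.to_isIntegral⟩
  obtain ⟨Q, -, hQ, hQy⟩ := Ideal.exists_ideal_over_prime_of_isIntegral
    (maximalIdeal A) (⊥ : Ideal T) (by
      rw [← RingHom.ker_eq_comap_bot]
      exact hker.trans (nilradical_le_prime _))
  have h1 : φ a ∈ Q := by
    have : a ∈ Q.comap (algebraMap A T) := hQy ▸ ha
    exact this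
  exact le_maximalIdeal hQ.ne_top h1

/-- The preimage of the open cuts the punctured spectrum on the zero section. -/
theorem hV (hfin : φ.Finite) (hker : RingHom.ker φ ≤ nilradical A) (d : ℕ)
    (y : PrimeSpectrum (MvPowerSeries (Fin d) T))
    (hy : ∀ i : Fin d, MvPowerSeries.X i ∈ y.asIdeal) :
    (∃ a ∈ maximalIdeal A, MvPowerSeries.C (φ a) ∉ y.asIdeal) ↔
      y ≠ closedPoint (MvPowerSeries (Fin d) T) := by
  constructor
  · rintro ⟨a, ha, hay⟩ rfl
    apply hay
    change MvPowerSeries.C (φ a) ∈ maximalIdeal _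
    rw [mem_maximalIdeal, mem_nonunits_iff, MvPowerSeries.isUnit_iff_constantCoeff]
    have := isLocalHom_phi φ hfin hker a ha
    rw [mem_maximalIdeal, mem_nonunits_iff] at this
    simpa using this
  · intro h
    by_contra! hcon
    apply h
    let := φ.toAlgebra
    have : Algebra.IsIntegral A T := ⟨hfin.to_isIntegral⟩
    let q : Ideal T := y.asIdeal.comap (MvPowerSeries.C (σ := Fin d) (R := T))
    have hq : q.IsPrime := y.isPrime.comap _
    have hqm : q.comap (algebraMap A T) = maximalIdeal A :=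
      ((maximalIdeal.isMaximal A).eq_of_le (hq.comap _).ne_top hcon).symm
    have hqmax : q.IsMaximal := by
      refine Ideal.isMaximal_of_isIntegral_of_isMaximal_comap (R := A) q ?_
      rw [hqm]; exact maximalIdeal.isMaximal A
    have hq' : q = maximalIdeal T := IsLocalRing.eq_maximalIdeal hqmax
    apply PrimeSpectrum.ext
    refine le_antisymm (le_maximalIdeal y.isPrime.ne_top) ?_
    change maximalIdeal _ ≤ _
    rw [CalgA.FinitePow.maximalIdeal_mvPowerSeries_eq (maximalIdeal T : Set T) (Ideal.span_eq _),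
      Ideal.span_le]
    rintro _ (⟨t, ht, rfl⟩ | ⟨i, rfl⟩)
    · have : t ∈ q := hq' ▸ ht
      exact this
    · exact hy i

/-- Restriction along the zero section is fully faithful over `A` when it is so over a finite
algebra `T` of depth at least two, isomorphic up to nilpotents over the punctured spectrum. -/
theorem fullyFaithful_of_finite [IsNoetherianRing T] (hdepth : (2 : ℕ∞) ≤ LocCoh.depth T T)
    (hfin : φ.Finite) (hker : IsNilpotent (RingHom.ker φ))
    (htr : ∀ a ∈ maximalIdeal A, ∃ n : ℕ, ∀ t : T, ∃ b, φ a ^ n * t = φ b) (d : ℕ) (hd : 1 ≤ d) :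
    (FEt.restrict (pullback.fst (openOf A d).ι (Spec.map (CommRingCat.ofHom
      (MvPowerSeries.constantCoeff : MvPowerSeries (Fin d) A →+* A))))).Full ∧
    (FEt.restrict (pullback.fst (openOf A d).ι (Spec.map (CommRingCat.ofHom
      (MvPowerSeries.constantCoeff : MvPowerSeries (Fin d) A →+* A))))).Faithful := by
  have hker' : RingHom.ker φ ≤ nilradical A := by
    obtain ⟨n, hn⟩ := hker
    intro a ha
    rw [mem_nilradical]
    refine ⟨n, ?_⟩
    have h1 : a ^ n ∈ RingHom.ker φ ^ n := Ideal.pow_mem_pow ha n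
    rwa [hn, Ideal.zero_eq_bot, Ideal.mem_bot] at h1
  set V := openOf A d with hVdef
  let Φ : MvPowerSeries (Fin d) A →+* MvPowerSeries (Fin d) T := MvPowerSeries.map φ
  have hΦint : Φ.IsIntegral := (PowMap.finite_map φ d hfin).to_isIntegral
  have hΦker : RingHom.ker Φ ≤ nilradical _ := PowMap.ker_map_le φ d hker
  let VT := Spec.map (CommRingCat.ofHom Φ) ⁻¹ᵁ V
  let h' : (VT : Scheme.{u}) ⟶ V := Spec.map (CommRingCat.ofHom Φ) ∣_ V
  have sq1 : IsPullback h' VT.ι V.ι (Spec.map (CommRingCat.ofHom Φ)) :=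
    isPullback_morphismRestrict _ _
  have hloc : ∀ y : PrimeSpectrum (MvPowerSeries (Fin d) A), y ∈ V → ∃ a : MvPowerSeries (Fin d) A,
      a ∉ y.asIdeal ∧ ∀ r' : MvPowerSeries (Fin d) T, ∃ (n : ℕ) (r : MvPowerSeries (Fin d) A),
        Φ a ^ n * r' = Φ r := by
    intro y hy
    obtain ⟨a, ha, hay⟩ := (mem_openOf_iff y).mp hy
    refine ⟨MvPowerSeries.C a, hay, fun r' => ?_⟩
    obtain ⟨n, hn⟩ := htr a ha
    exact ⟨n, PowMap.exists_C_mul_eq φ d a n hn r'⟩
  have hh' : Mono h' ∧ Surjective h' ∧ IsIntegralHom h' := by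
    have h1 := PowMap.mono_fst Φ V hloc
    have h2 := PowMap.surjective_specMap Φ hΦint hΦker
    have h3 : IsIntegralHom (Spec.map (CommRingCat.ofHom Φ)) :=
      (IsIntegralHom.SpecMap_iff).mpr hΦint
    rw [← sq1.isoPullback_hom_fst]
    exact ⟨inferInstance, inferInstance, inferInstance⟩
  obtain ⟨hmono, hsurj, hint⟩ := hh'
  have hequiv : (FEt.restrict h').IsEquivalence := S0289.result h'
  -- the zero sections
  let cA : MvPowerSeries (Fin d) A →+* A := MvPowerSeries.constantCoeff
  let cT : MvPowerSeries (Fin d) T →+* T := MvPowerSeries.constantCoeff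
  have hcomm : cT.comp Φ = φ.comp cA := by
    ext F
    exact MvPowerSeries.constantCoeff_map _ _
  have hcT : IsClosedImmersion (Spec.map (CommRingCat.ofHom cT)) :=
    IsClosedImmersion.spec_of_surjective _ (fun t => ⟨MvPowerSeries.C t, by simp [cT]⟩)
  obtain ⟨hfull, hfaith⟩ := S1159.result T hdepth d hd VT (fun y hy => by
    refine Iff.trans ?_ (hV φ hfin hker' d y hy)
    refine (mem_openOf_iff (PrimeSpectrum.comap Φ y)).trans ?_
    refine exists_congr fun a => and_congr_right fun ha => not_congr ?_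
    change Φ (MvPowerSeries.C a) ∈ y.asIdeal ↔ _
    rw [MvPowerSeries.map_C])
  let gT := pullback.fst VT.ι (Spec.map (CommRingCat.ofHom cT))
  let gA := pullback.fst V.ι (Spec.map (CommRingCat.ofHom cA))
  have hw : Spec.map (CommRingCat.ofHom cT) ≫ Spec.map (CommRingCat.ofHom Φ) =
      Spec.map (CommRingCat.ofHom φ) ≫ Spec.map (CommRingCat.ofHom cA) := by
    rw [← Spec.map_comp, ← Spec.map_comp, ← CommRingCat.ofHom_comp, ← CommRingCat.ofHom_comp, hcomm]
  let k : pullback VT.ι (Spec.map (CommRingCat.ofHom cT)) ⟶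
      pullback V.ι (Spec.map (CommRingCat.ofHom cA)) :=
    pullback.lift (gT ≫ h') (pullback.snd _ _ ≫ Spec.map (CommRingCat.ofHom φ)) (by
      rw [Category.assoc, sq1.w, pullback.condition_assoc, hw, Category.assoc])
  have hk1 : k ≫ gA = gT ≫ h' := pullback.lift_fst _ _ _
  have hk2 : k ≫ pullback.snd _ _ = pullback.snd _ _ ≫ Spec.map (CommRingCat.ofHom φ) :=
    pullback.lift_snd _ _ _
  have sq2 : IsPullback k (pullback.snd VT.ι (Spec.map (CommRingCat.ofHom cT)))
      (pullback.snd V.ι (Spec.map (CommRingCat.ofHom cA))) (Spec.map (CommRingCat.ofHom φ)) := by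
    refine IsPullback.of_right (h₁₂ := gA) (h₂₂ := Spec.map (CommRingCat.ofHom cA)) (v₁₃ := V.ι)
      ?_ hk2 (IsPullback.of_hasPullback _ _)
    rw [hk1, ← hw]
    exact (IsPullback.of_hasPullback _ _).paste_horiz sq1
  have hkk : Mono k ∧ Surjective k ∧ IsIntegralHom k := by
    have h1 : Mono (k ≫ gA) := by
      rw [hk1]
      infer_instance
    have h2 := PowMap.surjective_specMap φ hfin.to_isIntegral hker'
    have h3 : IsIntegralHom (Spec.map (CommRingCat.ofHom φ)) :=
      (IsIntegralHom.SpecMap_iff).mpr hfin.to_isIntegral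
    refine ⟨mono_of_mono k gA, ?_, ?_⟩
    · rw [← sq2.flip.isoPullback_hom_snd]
      infer_instance
    · rw [← sq2.flip.isoPullback_hom_snd]
      infer_instance
  obtain ⟨hkmono, hksurj, hkint⟩ := hkk
  have hkequiv : (FEt.restrict k).IsEquivalence := S0289.result k
  have e1 : FEt.restrict (k ≫ gA) ≅ FEt.restrict gA ⋙ FEt.restrict k :=
    MorphismProperty.Over.pullbackComp k gA _ rfl
  have e2 : FEt.restrict (gT ≫ h') ≅ FEt.restrict h' ⋙ FEt.restrict gT :=
    MorphismProperty.Over.pullbackComp gT h' _ rfl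
  have e3 : FEt.restrict h' ⋙ FEt.restrict gT ≅ FEt.restrict gA ⋙ FEt.restrict k :=
    e2.symm ≪≫ eqToIso (by rw [hk1]) ≪≫ e1
  have hfull' : (FEt.restrict gA ⋙ FEt.restrict k).Full := Functor.Full.of_iso e3
  have hfaith' : (FEt.restrict gA ⋙ FEt.restrict k).Faithful := Functor.Faithful.of_iso e3
  exact ⟨Functor.Full.of_comp_faithful _ (FEt.restrict k), Functor.Faithful.of_comp _ (FEt.restrict k)⟩

end Fin

/-- Let `A` be a henselian Noetherian local ring which is Nagata (e.g. complete), of dimension at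
least two and with connected punctured spectrum.  Restriction of finite étale covers from the open
of `Spec A[[X]]` over the punctured spectrum of `A` to the zero section is fully faithful. -/
theorem fullyFaithful_of_isNagata (A : Type u) [CommRing A] [HenselianLocalRing A]
    (hN : CAlg.IsNagata A) (hA : IsPConn A) (hdim : (2 : WithBot ℕ∞) ≤ ringKrullDim A)
    (d : ℕ) (hd : 1 ≤ d) :
    (FEt.restrict (pullback.fst (openOf A d).ι (Spec.map (CommRingCat.ofHom
      (MvPowerSeries.constantCoeff : MvPowerSeries (Fin d) A →+* A))))).Full ∧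
    (FEt.restrict (pullback.fst (openOf A d).ι (Spec.map (CommRingCat.ofHom
      (MvPowerSeries.constantCoeff : MvPowerSeries (Fin d) A →+* A))))).Faithful := by
  have hNoeth : IsNoetherianRing A := hN.1
  let N := nilradical A
  have hNle : N ≤ maximalIdeal A := nilradical_le_prime _
  have hnt : Nontrivial (A ⧸ N) := Ideal.Quotient.nontrivial_iff.mpr
    (fun h => (maximalIdeal.isMaximal A).ne_top (top_le_iff.mp (h ▸ hNle)))
  have hloc : IsLocalRing (A ⧸ N) := IsLocalRing.of_surjective' _ Ideal.Quotient.mk_surjective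
  have hint : Algebra.IsIntegral A (A ⧸ N) := Algebra.IsIntegral.of_finite A _
  have hhens : HenselianLocalRing (A ⧸ N) :=
    Etrest.IntHens.henselianLocalRing_of_isIntegral A (A ⧸ N)
  have hred : IsReduced (A ⧸ N) :=
    (Ideal.isRadical_iff_quotient_reduced N).mp (Ideal.radical_isRadical _)
  have h1 : IsPConn (A ⧸ N) := FlatConn.isPConn_of_surjective (Ideal.Quotient.mk N)
    Ideal.Quotient.mk_surjective (by rw [Ideal.mk_ker]) hA
  have h2 : (2 : WithBot ℕ∞) ≤ ringKrullDim (A ⧸ N) := by
    rwa [ringKrullDim_quotient, PrimeSpectrum.zeroLocus_nilradical,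
      ← Order.krullDim_eq_of_orderIso (OrderIso.Set.univ (α := PrimeSpectrum A)).symm]
  obtain ⟨x, hxm, hx⟩ := FlatConn.exists_regular h2
  have hdim' : ∀ p ∈ minimalPrimes (A ⧸ N), (2 : WithBot ℕ∞) ≤ ringKrullDim ((A ⧸ N) ⧸ p) :=
    fun p hp => two_le_dim_of_isPConn h1 h2 hp
  have hfin : Module.Finite (A ⧸ N) (transform x) :=
    TransformDepth.finite_transform (CalgA.NagataExt.isNagata_quotient hN N) hdim' hx
  have hTloc : IsLocalRing (transform x) := isLocalRing_of_finite h1 hx hxm _ le_rfl
  have hTN : IsNoetherianRing (transform x) := IsNoetherianRing.of_finite (A ⧸ N) _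
  have hdepth := TransformDepth.two_le_depth hx hxm
  let φ : A →+* transform x := (algebraMap (A ⧸ N) (transform x)).comp (Ideal.Quotient.mk N)
  have hinj : Function.Injective (algebraMap (A ⧸ N) (transform x)) := fun a b h =>
    injective_algebraMap hx (congrArg Subtype.val h)
  have hφfin : φ.Finite := RingHom.Finite.comp
    (RingHom.finite_algebraMap.mpr hfin) (RingHom.Finite.of_surjective _ Ideal.Quotient.mk_surjective)
  have hker : RingHom.ker φ = N := by
    ext a
    rw [RingHom.mem_ker]
    change algebraMap (A ⧸ N) (transform x) (Ideal.Quotient.mk N a) = 0 ↔ _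
    rw [← map_zero (algebraMap (A ⧸ N) (transform x)), hinj.eq_iff, Ideal.Quotient.eq_zero_iff_mem]
  obtain ⟨n, hn⟩ := exists_pow_of_finite (transform x) le_rfl
  refine fullyFaithful_of_finite φ hdepth hφfin ?_ ?_ d hd
  · rw [hker]
    exact IsNoetherianRing.isNilpotent_nilradical A
  · intro a ha
    refine ⟨n, fun t => ?_⟩
    have h3 : (Ideal.Quotient.mk N a) ^ n ∈ maximalIdeal (A ⧸ N) ^ n := by
      refine Ideal.pow_mem_pow ?_ n
      rw [← FlatConn.map_maximalIdeal (Ideal.Quotient.mk N) Ideal.Quotient.mk_surjective]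
      exact Ideal.mem_map_of_mem _ ha
    obtain ⟨b, hb⟩ := hn _ h3 t t.2
    obtain ⟨b, rfl⟩ := Ideal.Quotient.mk_surjective b
    refine ⟨b, Subtype.ext ?_⟩
    refine Eq.trans ?_ hb
    rw [map_pow]
    rfl

end Groth.Agent.Sga2lef.H75.LefComplete
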