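import Groth.Prelude.Def_FEt
import Groth.Agent.CalgA.FinitePow
import Groth.Agent.S0289
import Mathlib.RingTheory.MvPowerSeries.Basic
import Mathlib.RingTheory.MvPowerSeries.Inverse
import Mathlib.AlgebraicGeometry.Morphisms.UniversallyInjective
import Mathlib.AlgebraicGeometry.Morphisms.Integral

/-!
# Finite étale covers over power series rings and finite birational extensions of the base
-/

set_option autoImplicit false
universe u

open CategoryTheory CategoryTheory.Limits AlgebraicGeometry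

namespace Groth.Agent.Sga2lef.H75.PowMap


/-- Base change to an open subset over which a ring map is locally surjective is a monomorphism. -/
theorem mono_fst {R R' : Type u} [CommRing R] [CommRing R'] (φ : R →+* R')
    (V : (Spec (CommRingCat.of R)).Opens) (hV : ∀ y : PrimeSpectrum R, y ∈ V → ∃ a : R, a ∉ y.asIdeal ∧
      ∀ r' : R', ∃ (n : ℕ) (r : R), φ a ^ n * r' = φ r) :
    Mono (pullback.fst V.ι (Spec.map (CommRingCat.ofHom φ))) := by
  refine ⟨fun {Z} α β hαβ => pullback.hom_ext hαβ ?_⟩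
  set f := (α ≫ pullback.fst V.ι (Spec.map (CommRingCat.ofHom φ))) ≫ V.ι with hf
  have hα : f = (α ≫ pullback.snd V.ι (Spec.map (CommRingCat.ofHom φ))) ≫ Spec.map (CommRingCat.ofHom φ) := by
    rw [hf, Category.assoc, pullback.condition, Category.assoc]
  have hβ : f = (β ≫ pullback.snd V.ι (Spec.map (CommRingCat.ofHom φ))) ≫ Spec.map (CommRingCat.ofHom φ) := by
    rw [hf, hαβ, Category.assoc, pullback.condition, Category.assoc]
  generalize α ≫ pullback.snd V.ι (Spec.map (CommRingCat.ofHom φ)) = a at hα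
  generalize β ≫ pullback.snd V.ι (Spec.map (CommRingCat.ofHom φ)) = b at hβ
  have hfV : ∀ z : Z, f z ∈ V := by
    intro z
    rw [hf]
    simp only [Scheme.Hom.comp_apply]
    exact (α ≫ pullback.fst V.ι (Spec.map (CommRingCat.ofHom φ))) z |>.2
  clear_value f
  clear hαβ hf α β
  let ρ : R →+* Γ(Z, ⊤) := ((Scheme.ΓSpecIso (CommRingCat.of R)).inv ≫ f.appTop).hom
  let ρ₁ : R' →+* Γ(Z, ⊤) := ((Scheme.ΓSpecIso (CommRingCat.of R')).inv ≫ a.appTop).hom
  let ρ₂ : R' →+* Γ(Z, ⊤) := ((Scheme.ΓSpecIso (CommRingCat.of R')).inv ≫ b.appTop).hom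
  have h₁ : ∀ r, ρ₁ (φ r) = ρ r := by
    intro r
    have : CommRingCat.ofHom φ ≫ (Scheme.ΓSpecIso (CommRingCat.of R')).inv ≫ a.appTop =
        (Scheme.ΓSpecIso (CommRingCat.of R)).inv ≫ f.appTop := by
      rw [hα, Scheme.Hom.comp_appTop, ← Scheme.ΓSpecIso_inv_naturality_assoc]
    exact congrArg (fun g => g.hom r) this
  have h₂ : ∀ r, ρ₂ (φ r) = ρ r := by
    intro r
    have : CommRingCat.ofHom φ ≫ (Scheme.ΓSpecIso (CommRingCat.of R')).inv ≫ b.appTop =
        (Scheme.ΓSpecIso (CommRingCat.of R)).inv ≫ f.appTop := by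
      rw [hβ, Scheme.Hom.comp_appTop, ← Scheme.ΓSpecIso_inv_naturality_assoc]
    exact congrArg (fun g => g.hom r) this
  suffices h : ρ₁ = ρ₂ by
    have h3 : (Scheme.ΓSpecIso (CommRingCat.of R')).inv ≫ a.appTop =
        (Scheme.ΓSpecIso (CommRingCat.of R')).inv ≫ b.appTop := CommRingCat.hom_ext h
    exact ext_of_isAffine ((Iso.cancel_iso_inv_left _ _ _).mp h3)
  ext r'
  have hcov : ∀ z : Z, ∃ s : Γ(Z, ⊤), z ∈ Z.basicOpen s ∧ ∃ n, s ^ n * (ρ₁ r' - ρ₂ r') = 0 := by
    intro z
    obtain ⟨c, hc, hc'⟩ := hV (f z) (hfV z)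
    refine ⟨ρ c, ?_, ?_⟩
    · change z ∈ Z.basicOpen (f.appTop ((Scheme.ΓSpecIso (CommRingCat.of R)).inv c))
      rw [← Scheme.preimage_basicOpen_top]
      change f z ∈ (Spec (CommRingCat.of R)).basicOpen ((Scheme.ΓSpecIso (CommRingCat.of R)).inv c)
      rw [basicOpen_eq_of_affine']
      have h5 : (Scheme.ΓSpecIso (CommRingCat.of R)).hom ((Scheme.ΓSpecIso (CommRingCat.of R)).inv c) = c := by
        simp
      rw [h5]
      exact hc
    · obtain ⟨n, r, hr⟩ := hc' r'
      refine ⟨n, ?_⟩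
      rw [mul_sub, sub_eq_zero]
      calc ρ c ^ n * ρ₁ r' = ρ₁ (φ c ^ n * r') := by rw [map_mul, map_pow, h₁]
        _ = ρ₂ (φ c ^ n * r') := by rw [hr, h₁, h₂]
        _ = ρ c ^ n * ρ₂ r' := by rw [map_mul, map_pow, h₂]
  choose s hs n hn using hcov
  refine TopCat.Sheaf.eq_of_locally_eq' Z.sheaf (fun z => Z.basicOpen (s z)) ⊤
    (fun z => homOfLE le_top) ?_ _ _ ?_
  · intro z _
    exact TopologicalSpace.Opens.mem_iSup.mpr ⟨z, hs z⟩
  · intro z
    have hu := (RingedSpace.isUnit_res_basicOpen Z.toRingedSpace (s z)).pow (n z)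
    have h3 := congrArg (Z.presheaf.map (homOfLE (le_top : Z.basicOpen (s z) ≤ ⊤)).op).hom (hn z)
    rw [map_mul, map_zero, map_pow] at h3
    have h4 := hu.mul_right_eq_zero.mp h3
    rw [map_sub] at h4
    exact sub_eq_zero.mp h4

section Pow

variable {A T : Type u} [CommRing A] [CommRing T] (φ : A →+* T) (d : ℕ)

/-- A finite ring map induces a finite map on power series rings. -/
theorem finite_map (h : φ.Finite) : (MvPowerSeries.map (σ := Fin d) φ).Finite := by
  let := φ.toAlgebra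
  have hf : Module.Finite A T := h
  obtain ⟨k, t, ht⟩ := Module.Finite.exists_fin (R := A) (M := T)
  have hc : ∀ s : T, ∃ c : Fin k → A, s = ∑ i, φ (c i) * t i := by
    intro s
    have h1 : s ∈ Submodule.span A (Set.range t) := ht ▸ Submodule.mem_top
    obtain ⟨c, hc⟩ := (Submodule.mem_span_range_iff_exists_fun A).mp h1
    exact ⟨c, by rw [← hc]; rfl⟩
  choose c hc using hc
  let := (MvPowerSeries.map (σ := Fin d) φ).toAlgebra
  refine Module.Finite.of_surjective (Fintype.linearCombination (MvPowerSeries (Fin d) A)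
    (fun i : Fin k => MvPowerSeries.C (σ := Fin d) (t i))) ?_
  intro F
  refine ⟨fun i => (fun m => c (MvPowerSeries.coeff m F) i : MvPowerSeries (Fin d) A), ?_⟩
  rw [Fintype.linearCombination_apply]
  ext m
  rw [map_sum]
  conv_rhs => rw [hc (MvPowerSeries.coeff m F)]
  refine Finset.sum_congr rfl fun i _ => ?_
  rw [Algebra.smul_def]
  change MvPowerSeries.coeff m (MvPowerSeries.map φ _ * _) = _
  rw [MvPowerSeries.coeff_mul_C, MvPowerSeries.coeff_map]
  rfl

theorem exists_C_mul_eq (a : A) (n : ℕ) (h : ∀ t : T, ∃ b, φ a ^ n * t = φ b)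
    (F : MvPowerSeries (Fin d) T) : ∃ G : MvPowerSeries (Fin d) A,
      MvPowerSeries.map φ (MvPowerSeries.C a) ^ n * F = MvPowerSeries.map φ G := by
  choose b hb using h
  refine ⟨(fun m => b (MvPowerSeries.coeff m F) : MvPowerSeries (Fin d) A), ?_⟩
  rw [MvPowerSeries.map_C, ← map_pow]
  ext m
  rw [MvPowerSeries.coeff_C_mul, hb, MvPowerSeries.coeff_map]
  rfl

theorem coeff_mem_mul (I J : Ideal A) (F G : MvPowerSeries (Fin d) A)
    (hF : ∀ m, MvPowerSeries.coeff m F ∈ I) (hG : ∀ m, MvPowerSeries.coeff m G ∈ J) (m : Fin d →₀ ℕ) :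
    MvPowerSeries.coeff m (F * G) ∈ I * J := by
  classical
  rw [MvPowerSeries.coeff_mul]
  exact Ideal.sum_mem _ fun i _ => Ideal.mul_mem_mul (hF _) (hG _)

theorem coeff_mem_pow (I : Ideal A) (F : MvPowerSeries (Fin d) A)
    (hF : ∀ m, MvPowerSeries.coeff m F ∈ I) (n : ℕ) (m : Fin d →₀ ℕ) :
    MvPowerSeries.coeff m (F ^ n) ∈ I ^ n := by
  induction n generalizing m with
  | zero => rw [pow_zero, pow_zero, Ideal.one_eq_top]; trivial
  | succ n ih => rw [pow_succ, pow_succ]; exact coeff_mem_mul d _ _ _ _ ih hF m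

theorem ker_map_le (h : IsNilpotent (RingHom.ker φ)) :
    RingHom.ker (MvPowerSeries.map (σ := Fin d) φ) ≤ nilradical _ := by
  obtain ⟨n, hn⟩ := h
  intro F hF
  rw [mem_nilradical]
  refine ⟨n, ?_⟩
  ext m
  have h1 := coeff_mem_pow d (RingHom.ker φ) F (fun m => by
    rw [RingHom.mem_ker, ← MvPowerSeries.coeff_map, RingHom.mem_ker.mp hF, map_zero]) n m
  rw [hn] at h1
  rw [map_zero]
  exact h1

end Pow

theorem surjective_specMap {R R' : Type u} [CommRing R] [CommRing R'] (φ : R →+* R')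
    (hint : φ.IsIntegral) (hker : RingHom.ker φ ≤ nilradical R) :
    Surjective (Spec.map (CommRingCat.ofHom φ)) := by
  constructor
  intro y
  let := φ.toAlgebra
  have : Algebra.IsIntegral R R' := ⟨hint⟩
  obtain ⟨Q, -, hQ, hQy⟩ := Ideal.exists_ideal_over_prime_of_isIntegral
    (y : PrimeSpectrum R).asIdeal (⊥ : Ideal R') (by
      rw [← RingHom.ker_eq_comap_bot]
      exact hker.trans (nilradical_le_prime _))
  exact ⟨⟨Q, hQ⟩, PrimeSpectrum.ext hQy⟩

/-- The restriction functor is an equivalence for a finite map with nil kernel which is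
locally surjective over an open. -/
theorem isEquivalence_fst {R R' : Type u} [CommRing R] [CommRing R'] (φ : R →+* R')
    (hint : φ.IsIntegral) (hker : RingHom.ker φ ≤ nilradical R)
    (V : (Spec (CommRingCat.of R)).Opens) (hV : ∀ y : PrimeSpectrum R, y ∈ V → ∃ a : R, a ∉ y.asIdeal ∧
      ∀ r' : R', ∃ (n : ℕ) (r : R), φ a ^ n * r' = φ r) :
    (FEt.restrict (pullback.fst V.ι (Spec.map (CommRingCat.ofHom φ)))).IsEquivalence := by
  have h1 := mono_fst φ V hV
  have h2 := surjective_specMap φ hint hker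
  have h3 : IsIntegralHom (Spec.map (CommRingCat.ofHom φ)) := (IsIntegralHom.SpecMap_iff).mpr hint
  exact S0289.result _

end Groth.Agent.Sga2lef.H75.PowMap
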