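import Groth.Agent.Sga2lef.H75.LefComplete
import Groth.Agent.Sga2lef.H90.Spread
import Groth.Agent.Pi1A.LefExt
import Groth.Agent.S0547

/-!
# Extension of finite étale covers along power series over the completion
-/

set_option autoImplicit false
universe u

open CategoryTheory CategoryTheory.Limits AlgebraicGeometry IsLocalRing

namespace Groth.Agent.Sga2lef.H75.QExt

open PConn LefComplete Groth.Agent.Pi1.H395.ExtBC Groth.Agent.Pi1A.FEtGlue

/-- A cover of the open of `Spec A[[X]]` over the punctured spectrum of `A` extends to `Spec A[[X]]` if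
its restriction to the zero section extends. -/
theorem extOver_id (A : Type u) [CommRing A] [HenselianLocalRing A]
    (hN : CAlg.IsNagata A) (hA : IsPConn A) (hdim : (2 : WithBot ℕ∞) ≤ ringKrullDim A)
    (d : ℕ) (hd : 1 ≤ d) (W : FEt.Cat (openOf A d : Scheme.{u}))
    (h : ExtOver W (Spec.map (CommRingCat.ofHom
      (MvPowerSeries.constantCoeff : MvPowerSeries (Fin d) A →+* A)))) : ExtOver W (𝟙 _) := by
  obtain ⟨hfull, hfaith⟩ := fullyFaithful_of_isNagata A hN hA hdim d hd
  set cA := Spec.map (CommRingCat.ofHom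
      (MvPowerSeries.constantCoeff : MvPowerSeries (Fin d) A →+* A)) with hcA
  set V := openOf A d
  obtain ⟨Y₀, ⟨e⟩⟩ := h
  let C := Spec.map (CommRingCat.ofHom (MvPowerSeries.C : A →+* MvPowerSeries (Fin d) A))
  have hC : cA ≫ C = 𝟙 _ := by
    rw [hcA, ← Spec.map_comp, ← CommRingCat.ofHom_comp]
    have : (MvPowerSeries.constantCoeff : MvPowerSeries (Fin d) A →+* A).comp
        (MvPowerSeries.C : A →+* MvPowerSeries (Fin d) A) = RingHom.id A := by
      ext a; simp
    rw [this]
    exact Spec.map_id _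
  rw [extOver_id_iff]
  refine ⟨(FEt.restrict C).obj Y₀, ⟨?_⟩⟩
  refine (FEt.restrict (pullback.fst V.ι cA)).preimageIso ?_
  have h1 : (pullback.fst V.ι cA ≫ V.ι) ≫ C = pullback.snd V.ι cA := by
    rw [pullback.condition, Category.assoc, hC, Category.comp_id]
  exact (restrictComp (pullback.fst V.ι cA) V.ι).symm.app _ ≪≫
    (restrictComp (pullback.fst V.ι cA ≫ V.ι) C).symm.app Y₀ ≪≫
    (restrictCongr h1).app Y₀ ≪≫ e

theorem preimage_eq {A C : Type u} [CommRing A] [IsNoetherianRing A] [IsLocalRing A] [CommRing C]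
    [Algebra A C] (d : ℕ) (φ : C →+* MvPowerSeries (Fin d) (AdicCompletion (maximalIdeal A) A))
    (hφ : ∀ a : A, φ (algebraMap A C a) = MvPowerSeries.C (algebraMap A _ a)) :
    openOf (AdicCompletion (maximalIdeal A) A) d = Spec.map (CommRingCat.ofHom φ) ⁻¹ᵁ
      (Spec.map (CommRingCat.ofHom (algebraMap A C)) ⁻¹ᵁ FEt.puncturedSpec A) := by
  ext y
  refine (mem_openOf_iff y).trans ?_
  change _ ↔ PrimeSpectrum.comap ((φ.comp (algebraMap A C))) y ∈ FEt.puncturedSpec A
  rw [mem_puncturedSpec]
  constructor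
  · rintro ⟨a, ha, hay⟩ h
    apply hay
    rw [AdicCompletion.maximalIdeal_eq_map] at ha
    have h1 : (maximalIdeal A).map (algebraMap A (AdicCompletion (maximalIdeal A) A)) ≤
        y.asIdeal.comap MvPowerSeries.C := by
      rw [Ideal.map_le_iff_le_comap]
      intro b hb
      have h2 : b ∈ (PrimeSpectrum.comap (φ.comp (algebraMap A C)) y).asIdeal := by rw [h]; exact hb
      change φ (algebraMap A C b) ∈ y.asIdeal at h2
      rw [hφ] at h2
      exact h2
    exact h1 ha
  · intro h
    by_contra! hcon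
    apply h
    refine ((maximalIdeal.isMaximal A).eq_of_le ?_ ?_).symm
    · exact (PrimeSpectrum.comap _ y).isPrime.ne_top
    · intro a ha
      change φ (algebraMap A C a) ∈ y.asIdeal
      rw [hφ]
      apply hcon
      rw [AdicCompletion.maximalIdeal_eq_map]
      exact Ideal.mem_map_of_mem _ ha

/-- Let `A` be a henselian Noetherian local ring of dimension at least two with connected punctured
spectrum, `C` an `A`-algebra and `φ : C → Â[[X_1, ..., X_d]]` an `A`-homomorphism.  A finite étale cover
of the part of `Spec C` over the punctured spectrum of `A` which extends over `Spec Â` (via `φ` and the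
zero section) extends over `Spec Â[[X_1, ..., X_d]]`. -/
theorem extOver_powerSeries {A C : Type u} [CommRing A] [IsNoetherianRing A] [HenselianLocalRing A]
    [CommRing C] [Algebra A C] (hA : ConnectedSpace (FEt.puncturedSpec A : Scheme.{u}))
    (hdim : (2 : WithBot ℕ∞) ≤ ringKrullDim A)
    (V : FEt.Cat (Spec.map (CommRingCat.ofHom (algebraMap A C)) ⁻¹ᵁ FEt.puncturedSpec A : Scheme.{u}))
    (d : ℕ) (hd : 1 ≤ d) (φ : C →+* MvPowerSeries (Fin d) (AdicCompletion (maximalIdeal A) A))
    (hφ : ∀ a : A, φ (algebraMap A C a) = MvPowerSeries.C (algebraMap A _ a))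
    (h0 : ExtOver V (Spec.map (CommRingCat.ofHom (MvPowerSeries.constantCoeff.comp φ)))) :
    ExtOver V (Spec.map (CommRingCat.ofHom φ)) := by
  have hA' : IsPConn A := pConn_of_preconnectedSpace inferInstance
  have hAh := FlatConn.isPConn_adicCompletion A hA' hdim
  have hdimh : (2 : WithBot ℕ∞) ≤ ringKrullDim (AdicCompletion (maximalIdeal A) A) := by
    rw [S0547.result]; exact hdim
  have := Ega4A.CplFlat.isNoetherianRing_cpl A
  have hh : HenselianLocalRing (AdicCompletion (maximalIdeal A) A) :=
    Pi1A.LefExt.henselianLocalRing_of_isAdicComplete _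
  have hN : CAlg.IsNagata (AdicCompletion (maximalIdeal A) A) := S0568.result _
  obtain ⟨V', hV'⟩ := H90.Spread.exists_restrict' (openOf (AdicCompletion (maximalIdeal A) A) d) _
    (Spec.map (CommRingCat.ofHom φ)) (preimage_eq d φ hφ) V
  have h1 := extOver_id _ hN hAh hdimh d hd V' (by
    rw [hV', ← Spec.map_comp, ← CommRingCat.ofHom_comp]
    exact h0)
  rw [hV', Category.id_comp] at h1
  exact h1

end Groth.Agent.Sga2lef.H75.QExt
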