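import Groth.Agent.Sga2lef.H75.QExt

/-!
# Extension of finite étale covers along power series over the completion, any number of variables
-/

set_option autoImplicit false
universe u

open CategoryTheory CategoryTheory.Limits AlgebraicGeometry IsLocalRing

namespace Groth.Agent.Sga2lef.H75.QExt0

open Groth.Agent.Pi1.H395.ExtBC

/-- `QExt.extOver_powerSeries` for any number of variables (zero allowed). -/
theorem extOver_powerSeries {A C : Type u} [CommRing A] [IsNoetherianRing A] [HenselianLocalRing A]
    [CommRing C] [Algebra A C] (hA : ConnectedSpace (FEt.puncturedSpec A : Scheme.{u}))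
    (hdim : (2 : WithBot ℕ∞) ≤ ringKrullDim A)
    (V : FEt.Cat (Spec.map (CommRingCat.ofHom (algebraMap A C)) ⁻¹ᵁ FEt.puncturedSpec A : Scheme.{u}))
    (d : ℕ) (φ : C →+* MvPowerSeries (Fin d) (AdicCompletion (maximalIdeal A) A))
    (hφ : ∀ a : A, φ (algebraMap A C a) = MvPowerSeries.C (algebraMap A _ a))
    (h0 : ExtOver V (Spec.map (CommRingCat.ofHom (MvPowerSeries.constantCoeff.comp φ)))) :
    ExtOver V (Spec.map (CommRingCat.ofHom φ)) := by
  rcases Nat.eq_zero_or_pos d with rfl | hd
  · refine h0.of_eq_comp (Spec.map (CommRingCat.ofHom (MvPowerSeries.C (σ := Fin 0)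
      (R := AdicCompletion (maximalIdeal A) A)))) ?_
    rw [← Spec.map_comp, ← CommRingCat.ofHom_comp]
    congr 2
    ext c m
    have hm : m = 0 := Subsingleton.elim _ _
    subst hm
    simp
  · exact QExt.extOver_powerSeries hA hdim V d hd φ hφ h0

end Groth.Agent.Sga2lef.H75.QExt0
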